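import Groth.Agent.L25.GaPts
import Groth.Prelude.Def_TwC
import Groth.Prelude.Def_NonAbH2
import Mathlib.FieldTheory.Finite.Basic
import Mathlib.RingTheory.AdjoinRoot
import Mathlib.RingTheory.RingHom.FaithfullyFlat
import Mathlib.AlgebraicGeometry.Morphisms.Flat
import Mathlib.AlgebraicGeometry.ResidueField
import Mathlib.AlgebraicGeometry.Sites.Fpqc

/-!
# The Artin-Schreier sequence
-/

set_option autoImplicit false
set_option linter.unusedSectionVars false
set_option linter.style.haveILetI false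
universe u

open CategoryTheory CategoryTheory.Limits MonoidalCategory CartesianMonoidalCategory MonObj AlgebraicGeometry Opposite

noncomputable section

namespace Groth.L27.AS

open Groth.L25.GaPts

/-! ### Idempotents cut out by `d ^ p = d` -/

section ring

variable {R : Type u} [CommRing R] (p : ℕ) [Fact p.Prime]

/-- The idempotent of the locus `d = k`. -/
def idem (d : R) (k : ℕ) : R := 1 - (d - k) ^ (p - 1)

theorem expChar_of_zero [Nontrivial R] (hp : (p : R) = 0) : ExpChar R p := by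
  haveI : CharP R p := (CharP.charP_iff_prime_eq_zero (Fact.out : p.Prime)).mpr hp
  exact ExpChar.prime Fact.out

theorem add_pow_p (hp : (p : R) = 0) (a b : R) : (a + b) ^ p = a ^ p + b ^ p := by
  cases subsingleton_or_nontrivial R with
  | inl h => exact Subsingleton.elim _ _
  | inr h => haveI := expChar_of_zero p hp; exact add_pow_expChar a b p

theorem natCast_pow_p (hp : (p : R) = 0) (k : ℕ) : (k : R) ^ p = k := by
  induction k with
  | zero => simp [(Fact.out : p.Prime).ne_zero]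
  | succ k ih => rw [Nat.cast_succ, add_pow_p p hp, ih, one_pow]

theorem mul_idem (hp : (p : R) = 0) {d : R} (hd : d ^ p = d) (k : ℕ) : (d - k) * idem p d k = 0 := by
  have h1 : (d - k) * (d - k) ^ (p - 1) = d - k := by
    rw [← pow_succ', Nat.sub_add_cancel (Fact.out : p.Prime).one_le, eq_sub_iff_add_eq]
    conv_rhs => rw [← hd]
    conv_lhs => arg 2; rw [← natCast_pow_p p hp k]
    rw [← add_pow_p p hp, sub_add_cancel]
  rw [idem, mul_sub, _root_.mul_one, h1, sub_self]

theorem natCast_mod (hp : (p : R) = 0) (k : ℕ) : ((k % p : ℕ) : R) = k := by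
  conv_rhs => rw [← Nat.mod_add_div k p, Nat.cast_add, Nat.cast_mul, hp, zero_mul, add_zero]

theorem natCast_inj [Nontrivial R] (hp : (p : R) = 0) {m k : ZMod p} (h : (m.val : R) = k.val) :
    m = k := by
  haveI : CharP R p := (CharP.charP_iff_prime_eq_zero (Fact.out : p.Prime)).mpr hp
  have := (CharP.natCast_eq_natCast R p).1 h
  rw [← ZMod.natCast_zmod_val m, ← ZMod.natCast_zmod_val k]
  exact (ZMod.natCast_eq_natCast_iff _ _ p).2 this

theorem exists_idem_ne_zero {F : Type u} [Field F] (hp : (p : F) = 0) {d : F} (hd : d ^ p = d) :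
    ∃ m : ZMod p, idem p d m.val ≠ 0 := by
  haveI : CharP F p := (CharP.charP_iff_prime_eq_zero (Fact.out : p.Prime)).mpr hp
  have h1 : d ∈ (⊥ : Subfield F) := (Subfield.mem_bot_iff_pow_eq_self F p).2 hd
  rw [← ZMod.fieldRange_castHom_eq_bot p] at h1
  obtain ⟨m, hm⟩ := h1
  refine ⟨m, ?_⟩
  have hdm : d = (m.val : F) := by
    rw [← hm, ← ZMod.cast_eq_val]; rfl
  rw [idem, hdm, sub_self, zero_pow (Nat.sub_ne_zero_of_lt (Fact.out : p.Prime).one_lt), sub_zero]
  exact one_ne_zero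

theorem map_idem {R' : Type u} [CommRing R'] (f : R →+* R') (d : R) (k : ℕ) :
    f (idem p d k) = idem p (f d) k := by simp [idem]

omit [Fact p.Prime] in
theorem faithfullyFlat_of {f : Polynomial R} (hf : f.Monic) (hd : Nontrivial R → 0 < f.natDegree) :
    (AdjoinRoot.of f).FaithfullyFlat := by
  haveI : Module.Free R (AdjoinRoot f) := hf.free_adjoinRoot
  rw [← AdjoinRoot.algebraMap_eq, RingHom.faithfullyFlat_algebraMap_iff]
  cases subsingleton_or_nontrivial R with
  | inl h => exact { submodule_ne_top := fun m hm => absurd (Subsingleton.elim m ⊤) hm.ne_top }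
  | inr h =>
    have : Nontrivial (AdjoinRoot f) := Ideal.Quotient.nontrivial_iff.2 (by
      rw [Ne, Ideal.span_singleton_eq_top]
      intro hu
      have := hd h
      simp [hf.eq_one_of_isUnit hu] at this)
    infer_instance

end ring

/-! ### Points -/

variable {S : Scheme.{u}} {p : ℕ} [Fact p.Prime] (hp : (p : Γ(S, ⊤)) = 0)

include hp in
theorem p_zero (T : Over S) : (p : Γ(T.left, ⊤)) = 0 := by
  rw [← map_natCast T.hom.appTop.hom p, hp, map_zero]

variable (F : Red.Ga S ⟶ Red.Ga S)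

/-- `x ↦ x - F x`. -/
abbrev P : Red.Ga S ⟶ Red.Ga S := 𝟙 (Red.Ga S) * F⁻¹

variable {F} (hF : ∀ (T : Over S) (x : T ⟶ Red.Ga S), Red.gaFn (x ≫ F) = Red.gaFn x ^ p)

include hF in
theorem gaFn_P {T : Over S} (x : T ⟶ Red.Ga S) : Red.gaFn (x ≫ P F) = Red.gaFn x - Red.gaFn x ^ p := by
  rw [comp_mul, Category.comp_id, GrpObj.comp_inv, gaFn_mul, gaFn_inv, hF, sub_eq_add_neg]

include hp hF in
theorem isMonHom_P : IsMonHom (P F) where
  one_hom := by
    apply gaFn_injective
    show Red.gaFn (η[Red.Ga S] ≫ P F) = Red.gaFn η[Red.Ga S]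
    have : Red.gaFn η[Red.Ga S] = 0 := by
      rw [show η[Red.Ga S] = (1 : 𝟙_ (Over S) ⟶ Red.Ga S) by
        rw [Hom.one_def, Subsingleton.elim (toUnit (𝟙_ (Over S))) (𝟙 _), Category.id_comp]]
      exact gaFn_one
    rw [gaFn_P hF, this, zero_pow (Fact.out : p.Prime).ne_zero, sub_zero]
  mul_hom := by
    apply gaFn_injective
    show Red.gaFn (μ[Red.Ga S] ≫ P F) = Red.gaFn ((P F ⊗ₘ P F) ≫ μ[Red.Ga S])
    have h1 : μ[Red.Ga S] = fst _ _ * snd _ _ := by rw [Hom.mul_def, lift_fst_snd, Category.id_comp]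
    have h2 : (P F ⊗ₘ P F) ≫ μ[Red.Ga S] = (fst _ _ ≫ P F) * (snd _ _ ≫ P F) := by
      rw [Hom.mul_def]
      congr 1
    rw [h2, gaFn_mul, h1, gaFn_P hF, gaFn_P hF, gaFn_P hF, gaFn_mul, add_pow_p p (p_zero hp _), add_sub_add_comm]

variable {G' : Over S} [GrpObj G'] {e : G' ≅ TwC.const S (Multiplicative (ZMod p))}
  (he : TwC.IsConstGrp (Multiplicative (ZMod p)) G' e)
  {i : G' ⟶ Red.Ga S} [IsMonHom i]
  (hi : Red.gaFn (TwC.pt S (Multiplicative (ZMod p)) (Multiplicative.ofAdd 1) ≫ e.inv ≫ i) = 1)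

/-- The constant point of index `m` over `T`. -/
def cpt (T : Over S) (m : ZMod p) : T ⟶ G' :=
  toUnit T ≫ TwC.pt S (Multiplicative (ZMod p)) (Multiplicative.ofAdd m) ≫ e.inv

include hp he hi in
theorem gaFn_pt (m : ZMod p) :
    Red.gaFn (TwC.pt S (Multiplicative (ZMod p)) (Multiplicative.ofAdd m) ≫ e.inv ≫ i) = m.val := by
  let f : ZMod p → Γ((𝟙_ (Over S)).left, ⊤) := fun m =>
    Red.gaFn (TwC.pt S (Multiplicative (ZMod p)) (Multiplicative.ofAdd m) ≫ e.inv ≫ i)
  have hadd : ∀ m n, f (m + n) = f m + f n := by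
    intro m n
    simp only [f]
    rw [← gaFn_mul, ← Category.assoc, ← Category.assoc, ← Category.assoc, ← mul_comp, he]
    rfl
  have hnat : ∀ k : ℕ, f (k : ZMod p) = k := by
    intro k
    induction k with
    | zero =>
      have := hadd 0 0
      rw [add_zero] at this
      simpa using left_eq_add.1 this
    | succ k ih => rw [Nat.cast_succ, hadd, ih, Nat.cast_succ]; congr 1
  have := hnat m.val
  rw [ZMod.natCast_zmod_val] at this
  exact this

include hp he hi in
theorem gaFn_cpt (T : Over S) (m : ZMod p) : Red.gaFn (cpt (e := e) T m ≫ i) = m.val := by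
  rw [cpt, Category.assoc, Category.assoc, gaFn_comp, gaFn_pt hp he hi, map_natCast]

/-- The open subobject of `T` on an open of `T.left`. -/
abbrev res (T : Over S) (U : T.left.Opens) : Over S := Over.mk (U.ι ≫ T.hom)

/-- Its inclusion. -/
abbrev resι (T : Over S) (U : T.left.Opens) : res T U ⟶ T := Over.homMk U.ι

theorem isUnit_appTop_basicOpen (X : Scheme.{u}) (a : Γ(X, ⊤)) :
    IsUnit ((X.basicOpen a).ι.appTop a) := by
  rw [Scheme.Opens.ι_appTop]
  have h3 : X.presheaf.map (homOfLE (le_top : (X.basicOpen a).ι ''ᵁ ⊤ ≤ ⊤)).op =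
      X.presheaf.map (homOfLE (X.basicOpen_le a)).op ≫
        X.presheaf.map (eqToHom (X.basicOpen a).ι_image_top).op := by
    rw [← Functor.map_comp]; rfl
  erw [h3]
  exact (X.toRingedSpace.isUnit_res_basicOpen a).map (X.presheaf.map (eqToHom (X.basicOpen a).ι_image_top).op).hom

theorem hom_ext_locally {T Y : Over S} (f g : T ⟶ Y)
    (h : ∀ x : T.left, ∃ U : T.left.Opens, x ∈ U ∧ resι T U ≫ f = resι T U ≫ g) : f = g := by
  ext1
  refine Scheme.hom_ext_of_forall _ _ fun x => ?_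
  obtain ⟨U, hx, hU⟩ := h x
  exact ⟨U, hx, congrArg CommaMorphism.left hU⟩

theorem exists_cpt_nhd {T : Over S} (g : T ⟶ G') (x : T.left) :
    ∃ (U : T.left.Opens) (m : ZMod p), x ∈ U ∧ resι T U ≫ g = cpt (e := e) (res T U) m := by
  let c := Sigma.ι (fun _ : Multiplicative (ZMod p) => S)
  obtain ⟨m, s, hs⟩ := (sigmaOpenCover fun _ : Multiplicative (ZMod p) => S).exists_eq ((g ≫ e.hom).left x)
  refine ⟨(g ≫ e.hom).left ⁻¹ᵁ (c m).opensRange, Multiplicative.toAdd m, ⟨s, hs⟩, ?_⟩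
  rw [← cancel_mono e.hom, cpt, Category.assoc, Category.assoc, Category.assoc, e.inv_hom_id,
    Category.comp_id]
  ext1
  let U := (g ≫ e.hom).left ⁻¹ᵁ (c m).opensRange
  let l : (U : Scheme.{u}) ⟶ S := IsOpenImmersion.lift (c m) (U.ι ≫ (g ≫ e.hom).left) (by
    rintro _ ⟨y, rfl⟩; exact y.2)
  have hl : l ≫ c m = U.ι ≫ (g ≫ e.hom).left := IsOpenImmersion.lift_fac _ _ _
  have hl' : l = U.ι ≫ T.hom := by
    have h := congrArg (· ≫ (TwC.const S (Multiplicative (ZMod p))).hom) hl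
    simp only [Category.assoc] at h
    rw [Over.w (g ≫ e.hom)] at h
    simpa [c] using h
  show U.ι ≫ (g ≫ e.hom).left = (U.ι ≫ T.hom) ≫ c m
  rw [← hl, hl']

include hp he hi in
theorem comp_i_P (hF : ∀ (T : Over S) (x : T ⟶ Red.Ga S), Red.gaFn (x ≫ F) = Red.gaFn x ^ p) :
    i ≫ P F = 1 := by
  haveI := isMonHom_P hp hF
  refine hom_ext_locally _ _ fun x => ?_
  obtain ⟨U, m, hx, hU⟩ := exists_cpt_nhd (e := e) (𝟙 G') x
  rw [Category.comp_id] at hU
  refine ⟨U, hx, ?_⟩
  rw [hU, comp_one]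
  apply gaFn_injective
  show Red.gaFn _ = Red.gaFn (1 : res G' U ⟶ Red.Ga S)
  rw [← Category.assoc, gaFn_P hF, gaFn_one, gaFn_cpt hp he hi, natCast_pow_p p (p_zero hp _), sub_self]

include hp he hi in
theorem comp_i_injective {T : Over S} {g g' : T ⟶ G'} (h : g ≫ i = g' ≫ i) : g = g' := by
  refine hom_ext_locally _ _ fun x => ?_
  obtain ⟨U, m, hxU, hU⟩ := exists_cpt_nhd (e := e) g x
  obtain ⟨V, k, hxV, hV⟩ := exists_cpt_nhd (e := e) g' x
  let a : res T (U ⊓ V) ⟶ res T U := Over.homMk (T.left.homOfLE inf_le_left) (by simp)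
  let b : res T (U ⊓ V) ⟶ res T V := Over.homMk (T.left.homOfLE inf_le_right) (by simp)
  have ha : resι T (U ⊓ V) = a ≫ resι T U := by ext1; simp [a]
  have hb : resι T (U ⊓ V) = b ≫ resι T V := by ext1; simp [b]
  have hga : resι T (U ⊓ V) ≫ g = cpt (e := e) (res T (U ⊓ V)) m := by
    rw [ha, Category.assoc, hU, cpt, cpt, ← Category.assoc a, comp_toUnit]
  have hgb : resι T (U ⊓ V) ≫ g' = cpt (e := e) (res T (U ⊓ V)) k := by
    rw [hb, Category.assoc, hV, cpt, cpt, ← Category.assoc b, comp_toUnit]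
  refine ⟨U ⊓ V, ⟨hxU, hxV⟩, ?_⟩
  haveI : Nontrivial Γ((U ⊓ V : T.left.Opens).toScheme, ⊤) := by
    haveI : Nonempty (⊤ : (U ⊓ V : T.left.Opens).toScheme.Opens) := ⟨⟨⟨x, hxU, hxV⟩, trivial⟩⟩
    exact Scheme.component_nontrivial _ _
  have : m = k := by
    refine natCast_inj (R := Γ((U ⊓ V : T.left.Opens).toScheme, ⊤)) p (p_zero hp (res T (U ⊓ V))) ?_
    show ((m.val : ℕ) : Γ((res T (U ⊓ V)).left, ⊤)) = ((k.val : ℕ) : Γ((res T (U ⊓ V)).left, ⊤))
    rw [← gaFn_cpt hp he hi, ← gaFn_cpt hp he hi, ← hga, ← hgb, Category.assoc, Category.assoc, h]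
  rw [hga, hgb, this]

include hp he hi in
theorem exists_comp_i {T : Over S} (x : T ⟶ Red.Ga S) (hd : Red.gaFn x ^ p = Red.gaFn x) :
    ∃ g : T ⟶ G', g ≫ i = x := by
  set d := Red.gaFn x with hdd
  let U : ZMod p → T.left.Opens := fun m => T.left.basicOpen (idem p d m.val)
  have hcov : ∀ y : T.left, ∃ m, y ∈ U m := by
    intro y
    let ev := (T.left.evaluation ⊤ y trivial).hom
    obtain ⟨m, hm⟩ := exists_idem_ne_zero p (F := T.left.residueField y) (d := ev d)
      (by rw [← map_natCast ev, p_zero hp T, map_zero]) (by rw [← map_pow, hd])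
    rw [← map_idem p ev] at hm
    exact ⟨m, by by_contra hy; exact hm ((T.left.evaluation_eq_zero_iff_notMem_basicOpen y (U := ⊤) (TopologicalSpace.Opens.mem_top y) _).2 hy)⟩
  have hd' : ∀ m, (resι T (U m)).left.appTop d = (m.val : Γ((U m).toScheme, ⊤)) := by
    intro m
    have hu : IsUnit ((U m).ι.appTop (idem p d m.val)) := isUnit_appTop_basicOpen _ _
    have h0 := congrArg (U m).ι.appTop (mul_idem p (p_zero hp T) hd m.val)
    rw [map_mul, map_zero] at h0
    have := hu.mul_left_eq_zero.1 h0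
    rw [map_sub, map_natCast, sub_eq_zero] at this
    exact this
  have hres : ∀ m, resι T (U m) ≫ x = cpt (e := e) (res T (U m)) m ≫ i := by
    intro m
    apply gaFn_injective
    show Red.gaFn _ = Red.gaFn _
    rw [gaFn_comp, gaFn_cpt hp he hi]
    exact hd' m
  have hsup : iSup U = ⊤ := top_unique fun y _ => TopologicalSpace.Opens.mem_iSup.2 (hcov y)
  let 𝒰 := T.left.openCoverOfIsOpenCover U hsup
  let gl : ∀ m, (U m).toScheme ⟶ G'.left := fun m => (cpt (e := e) (res T (U m)) m).left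
  have hcomp : ∀ a b, pullback.fst (U a).ι (U b).ι ≫ gl a = pullback.snd _ _ ≫ gl b := by
    intro a b
    let W : Over S := Over.mk ((pullback.fst (U a).ι (U b).ι ≫ (U a).ι) ≫ T.hom)
    let fa : W ⟶ res T (U a) := Over.homMk (pullback.fst _ _) (by simp [W])
    let fb : W ⟶ res T (U b) := Over.homMk (pullback.snd _ _) (by simp [W, pullback.condition_assoc])
    have hab : fa ≫ resι T (U a) = fb ≫ resι T (U b) := by
      ext1; simp [fa, fb, pullback.condition]
    have := comp_i_injective hp he hi (g := fa ≫ cpt (e := e) _ a) (g' := fb ≫ cpt (e := e) _ b) (by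
      rw [Category.assoc, Category.assoc, ← hres, ← hres, ← Category.assoc, hab, Category.assoc])
    exact congrArg CommaMorphism.left this
  let g₀ : T.left ⟶ G'.left := 𝒰.glueMorphisms gl hcomp
  have hg₀ : ∀ m, (U m).ι ≫ g₀ = gl m := fun m => 𝒰.ι_glueMorphisms gl hcomp m
  have hg₁ : ∀ m : ZMod p, (U m).ι ≫ g₀ ≫ G'.hom = (U m).ι ≫ T.hom := fun m => by
    rw [← Category.assoc, hg₀]
    exact Over.w (cpt (e := e) (res T (U m)) m)
  let g : T ⟶ G' := Over.homMk g₀ (𝒰.hom_ext _ _ hg₁)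
  refine ⟨g, hom_ext_locally _ _ fun y => ?_⟩
  obtain ⟨m, hm⟩ := hcov y
  refine ⟨U m, hm, ?_⟩
  rw [hres, ← Category.assoc]
  congr 1
  ext1
  exact hg₀ m

include hp he hi in
theorem isPullback (hF : ∀ (T : Over S) (x : T ⟶ Red.Ga S), Red.gaFn (x ≫ F) = Red.gaFn x ^ p) :
    IsPullback (fst (Red.Ga S) G') ((Red.Ga S ◁ i) ≫ μ[Red.Ga S]) (P F) (P F) := by
  haveI := isMonHom_P hp hF
  have hsnd : (Red.Ga S ◁ i) ≫ μ[Red.Ga S] = fst _ G' * (snd _ G' ≫ i) := by
    rw [Hom.mul_def]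
    congr 1
  haveI : IsMonHom (P F) := isMonHom_P hp hF
  have sq : CommSq (fst (Red.Ga S) G') ((Red.Ga S ◁ i) ≫ μ[Red.Ga S]) (P F) (P F) := ⟨by
    have h1 : (snd (Red.Ga S) G' ≫ i) ≫ P F = 1 := by
      rw [Category.assoc, comp_i_P hp he hi hF, comp_one]
    have h2 := congrArg (fun t => Red.gaFn t) h1
    simp only [gaFn_P hF, gaFn_one] at h2
    apply gaFn_injective
    show Red.gaFn _ = Red.gaFn _
    rw [hsnd, gaFn_P hF, gaFn_P hF, gaFn_mul, add_pow_p p (p_zero hp _), add_sub_add_comm, h2, add_zero]⟩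
  have hlift : ∀ s : PullbackCone (P F) (P F), ∃ g : s.pt ⟶ G', g ≫ i = s.fst⁻¹ * s.snd := by
    intro s
    refine exists_comp_i hp he hi _ ?_
    have h := congrArg (fun t => Red.gaFn t) s.condition
    simp only [gaFn_P hF] at h
    rw [gaFn_mul, gaFn_inv, add_pow_p p (p_zero hp _)]
    have : (-Red.gaFn s.fst) ^ p = - Red.gaFn s.fst ^ p := by
      have := add_pow_p p (p_zero hp s.pt) (-Red.gaFn s.fst) (Red.gaFn s.fst)
      rw [neg_add_cancel, zero_pow (Fact.out : p.Prime).ne_zero] at this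
      exact eq_neg_of_add_eq_zero_left this.symm
    rw [this]
    linear_combination h
  choose g hg using hlift
  refine ⟨sq, ⟨PullbackCone.IsLimit.mk sq.w (fun s => lift s.fst (g s)) (fun s => lift_fst _ _)
    (fun s => ?_) (fun s m h₁ h₂ => ?_)⟩⟩
  · rw [hsnd, comp_mul, ← Category.assoc, lift_fst, lift_snd, hg, mul_inv_cancel_left]
  · refine CartesianMonoidalCategory.hom_ext _ _ (h₁.trans (lift_fst _ _).symm) ?_
    rw [lift_snd]
    apply comp_i_injective hp he hi
    rw [hg, hsnd, comp_mul, h₁] at *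
    rw [← h₂, inv_mul_cancel_left, Category.assoc]

include hF in
theorem isLocallyTrivial :
    NonAbH1.IsLocallyTrivialFor Scheme.fpqcPrecoverage (Over.mk (P F).left : Over (Red.Ga S).left) := by
  let X := (Red.Ga S).left
  let 𝒱 := X.affineCover
  let T : 𝒱.I₀ → Over S := fun j => Over.mk (𝒱.f j ≫ (Red.Ga S).hom)
  let y : ∀ j, T j ⟶ Red.Ga S := fun j => Over.homMk (𝒱.f j)
  let f : ∀ j, Polynomial Γ(𝒱.X j, ⊤) := fun j =>
    Polynomial.X ^ p - (Polynomial.X - Polynomial.C (Red.gaFn (y j) : Γ(𝒱.X j, ⊤)))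
  have hf : ∀ j, (f j).Monic := fun j =>
    Polynomial.monic_X_pow_sub (lt_of_le_of_lt (Polynomial.degree_X_sub_C_le _)
      (by exact_mod_cast (Fact.out : p.Prime).one_lt))
  let π : ∀ j, Spec (CommRingCat.of (AdjoinRoot (f j))) ⟶ 𝒱.X j := fun j =>
    Spec.map (CommRingCat.ofHom (AdjoinRoot.of (f j))) ≫ (𝒱.X j).isoSpec.inv
  have hπ : ∀ j, Presieve.singleton (π j) ∈ Scheme.fpqcPrecoverage (𝒱.X j) := by
    intro j
    have hff : (AdjoinRoot.of (f j)).FaithfullyFlat := faithfullyFlat_of (hf j) (fun h => by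
      rw [Polynomial.natDegree_sub_eq_left_of_natDegree_lt] <;> simp [(Fact.out : p.Prime).pos, (Fact.out : p.Prime).one_lt])
    haveI : Surjective (Spec.map (CommRingCat.ofHom (AdjoinRoot.of (f j)))) :=
      ⟨(RingHom.FaithfullyFlat.iff_flat_and_comap_surjective.1 hff).2⟩
    haveI : Flat (Spec.map (CommRingCat.ofHom (AdjoinRoot.of (f j)))) :=
      (HasRingHomProperty.Spec_iff (P := @Flat)).2 hff.flat
    haveI : Flat (π j) := inferInstanceAs (Flat (_ ≫ _))
    haveI : Surjective (π j) := inferInstanceAs (Surjective (_ ≫ _))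
    haveI : QuasiCompact (π j) := inferInstanceAs (QuasiCompact (_ ≫ _))
    exact Scheme.Hom.singleton_mem_fpqcPrecoverage _
  have h𝒱 : 𝒱.presieve₀ ∈ Scheme.fpqcPrecoverage X :=
    Scheme.zariskiPrecoverage_le_fpqcPrecoverage _ 𝒱.mem₀
  refine ⟨_, Precoverage.comp_mem_coverings (J := Scheme.fpqcPrecoverage) 𝒱.f h𝒱
    (σ := fun _ => PUnit.{u + 1}) (fun j _ => π j) (fun j => by
      have := hπ j
      rwa [← Presieve.ofArrows_pUnit] at this), ?_⟩
  rintro W h ⟨⟨j, _⟩⟩
  let T' : Over S := Over.mk (π j ≫ (T j).hom)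
  let q : T' ⟶ T j := Over.homMk (π j)
  let r : Γ(T'.left, ⊤) := (Scheme.ΓSpecIso _).inv (AdjoinRoot.root (f j))
  refine ⟨(ptOfElt r : T' ⟶ Red.Ga S).left, ?_⟩
  have key : (ptOfElt r : T' ⟶ Red.Ga S) ≫ P F = q ≫ y j := by
    apply gaFn_injective
    show Red.gaFn _ = Red.gaFn (q ≫ y j)
    rw [gaFn_P hF, gaFn_ptOfElt, gaFn_comp]
    have hq : ∀ a : Γ(𝒱.X j, ⊤), q.left.appTop a = (Scheme.ΓSpecIso _).inv (AdjoinRoot.of (f j) a) := by
      intro a
      show (π j).appTop a = _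
      have h1 := congrArg (fun ψ => (ConcreteCategory.hom ψ) a)
        (Scheme.ΓSpecIso_inv_naturality (CommRingCat.ofHom (AdjoinRoot.of (f j))))
      refine Eq.trans ?_ h1.symm
      have h3 : (𝒱.X j).isoSpec.inv.appTop = (Scheme.ΓSpecIso Γ(𝒱.X j, ⊤)).inv := by
        haveI : IsIso (𝒱.X j).isoSpec.hom.appTop := by
          rw [Scheme.isoSpec_hom, Scheme.toSpecΓ_appTop]; infer_instance
        rw [← cancel_mono (𝒱.X j).isoSpec.hom.appTop, ← Scheme.Hom.comp_appTop]
        simp [Scheme.isoSpec_hom, Scheme.toSpecΓ_appTop]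
      simp [π, h3]
      rfl
    rw [hq]
    have h0 : AdjoinRoot.root (f j) ^ p - (AdjoinRoot.root (f j) - AdjoinRoot.of (f j) (Red.gaFn (y j))) = 0 := by
      have := AdjoinRoot.eval₂_root (f j)
      simpa [f] using this
    have h2 := congrArg (fun z => (Scheme.ΓSpecIso (CommRingCat.of (AdjoinRoot (f j)))).inv.hom z) h0
    simp only [map_sub, map_pow, map_zero] at h2
    show r - r ^ p = _
    exact (sub_eq_zero.1 (by rw [← h2]; simp only [r]; ring)).symm
  exact congrArg CommaMorphism.left key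

include hp he hi in
theorem isExactSeq (hF : ∀ (T : Over S) (x : T ⟶ Red.Ga S), Red.gaFn (x ≫ F) = Red.gaFn x ^ p) :
    NonAbH1.IsExactSeq Scheme.fpqcPrecoverage i (P F) :=
  ⟨inferInstance, isMonHom_P hp hF, comp_i_P hp he hi hF, isPullback hp he hi hF, isLocallyTrivial hF⟩

end Groth.L27.AS

end
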